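import Mathlib.AlgebraicGeometry.Morphisms.FiniteType
import Mathlib.AlgebraicGeometry.Noetherian
import Mathlib.RingTheory.Algebraic.LinearIndependent
import Mathlib.RingTheory.Ideal.KrullsHeightTheorem

/-!
# Countable families of closed subsets over an uncountable field
-/

set_option linter.style.haveILetI false

universe u

namespace Groth.Agent.H96.Countable

open AlgebraicGeometry CategoryTheory TopologicalSpace Cardinal

theorem exists_isMaximal_forall_notMem {k A : Type u} [Field k] [Uncountable k] [CommRing A]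
    [IsDomain A] [Algebra k A] [Algebra.FiniteType k A] (f : ℕ → A) (hf : ∀ n, f n ≠ 0) :
    ∃ m : Ideal A, m.IsMaximal ∧ ∀ n, f n ∉ m := by
  classical
  obtain ⟨S, hS⟩ := (Algebra.FiniteType.out : (⊤ : Subalgebra k A).FG)
  let M : Submonoid A := Submonoid.closure (Set.range f)
  have hM : M ≤ nonZeroDivisors A :=
    Submonoid.closure_le.2 (Set.range_subset_iff.2 fun n => mem_nonZeroDivisors_of_ne_zero (hf n))
  haveI : IsDomain (Localization M) := IsLocalization.isDomain_localization hM
  obtain ⟨m, hm⟩ := Ideal.exists_maximal (Localization M)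
  letI := Ideal.Quotient.field m
  let K := Localization M ⧸ m
  let φ : A →ₐ[k] K := (Ideal.Quotient.mkₐ k m).comp (IsScalarTower.toAlgHom k A (Localization M))
  have hunit : ∀ a : M, φ a ≠ 0 := fun a =>
    (((IsLocalization.map_units (Localization M) a).map (Ideal.Quotient.mk m))).ne_zero
  -- generators of `K`
  let G : Set K := φ '' S ∪ Set.range fun n => (φ (f n))⁻¹
  have hG : G.Countable := (S.finite_toSet.image φ).countable.union (Set.countable_range _)
  have htop : Algebra.adjoin k G = ⊤ := by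
    refine eq_top_iff.2 fun z _ => ?_
    obtain ⟨w, rfl⟩ := Ideal.Quotient.mk_surjective z
    obtain ⟨⟨a, s⟩, has⟩ := IsLocalization.surj M w
    have ha : ∀ a, φ a ∈ Algebra.adjoin k G := fun a => by
      have : a ∈ Algebra.adjoin k (S : Set A) := hS ▸ Algebra.mem_top
      have : φ a ∈ (Algebra.adjoin k (S : Set A)).map φ := Subalgebra.mem_map.2 ⟨a, this, rfl⟩
      rw [AlgHom.map_adjoin] at this
      exact Algebra.adjoin_mono Set.subset_union_left this
    have hinv : ∀ s, s ∈ M → (φ s)⁻¹ ∈ Algebra.adjoin k G := fun s hs => by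
      induction hs using Submonoid.closure_induction with
      | mem x hx =>
        obtain ⟨n, rfl⟩ := hx
        exact Algebra.subset_adjoin (Or.inr ⟨n, rfl⟩)
      | one => rw [map_one, inv_one]; exact one_mem _
      | mul x y _ _ hx hy => rw [map_mul, mul_inv]; exact mul_mem hx hy
    have : Ideal.Quotient.mk m w = φ a * (φ (s : A))⁻¹ := by
      rw [eq_mul_inv_iff_mul_eq₀ (hunit s)]
      exact (map_mul _ _ _).symm.trans (congrArg (Ideal.Quotient.mk m) has)
    rw [this]
    exact mul_mem (ha a) (hinv _ s.2)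
  have hrank : Module.rank k K ≤ ℵ₀ := by
    have hsp : Submodule.span k ((Submonoid.closure G : Submonoid K) : Set K) = ⊤ := by
      rw [← Algebra.adjoin_eq_span, htop, Algebra.top_toSubmodule]
    haveI : Countable G := hG.to_subtype
    have hc : ((Submonoid.closure G : Submonoid K) : Set K).Countable := by
      have h1 : ((Submonoid.closure G : Submonoid K) : Set K) ⊆
          Set.range fun l : List G => (l.map Subtype.val).prod := by
        intro x hx
        obtain ⟨l, hl, rfl⟩ := Submonoid.exists_list_of_mem_closure hx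
        exact ⟨l.attach.map fun y => ⟨y.1, hl y.1 y.2⟩, by simp⟩
      exact (Set.countable_range _).mono h1
    calc Module.rank k K = Module.rank k (⊤ : Submodule k K) := (rank_top k K).symm
      _ ≤ #((Submonoid.closure G : Submonoid K) : Set K) := by rw [← hsp]; exact rank_span_le _
      _ ≤ ℵ₀ := hc.le_aleph0
  haveI : Algebra.IsAlgebraic k K := ⟨fun x => by
    by_contra hx
    have h := (Transcendental.linearIndependent_sub_inv hx).cardinal_le_rank
    exact not_le.2 Cardinal.aleph0_lt_mk (h.trans hrank)⟩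
  have hfield : IsField φ.range := Subalgebra.isField_of_algebraic _
  refine ⟨RingHom.ker φ, Ideal.Quotient.maximal_of_isField _ ?_, fun n hn => ?_⟩
  · exact MulEquiv.isField hfield (Ideal.quotientKerEquivRange φ).toMulEquiv
  · exact hunit ⟨f n, Submonoid.subset_closure ⟨n, rfl⟩⟩ hn

variable {k : Type u} [Field k] {X : Scheme.{u}} (sX : X ⟶ Spec (CommRingCat.of k))
  [LocallyOfFiniteType sX]

include sX

/-- An irreducible closed subset whose closed points are covered by countably many closed subsets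
is contained in one of them. -/
theorem exists_subset [Uncountable k] {T : Set X} (hT : IsIrreducible T) (hTc : IsClosed T)
    {ι : Type*} [Countable ι] (Z : ι → Closeds X)
    (h : ∀ x ∈ T, IsClosed ({x} : Set X) → ∃ i, x ∈ Z i) : ∃ i, T ⊆ Z i := by
  classical
  by_contra! hne
  haveI : JacobsonSpace X := LocallyOfFiniteType.jacobsonSpace sX
  set ξ := hT.genericPoint with hξ
  have hgen := (isGenericPoint_def).1 hT.isGenericPoint_genericPoint_closure
  rw [hTc.closure_eq] at hgen
  obtain ⟨U, hU, hξU, -⟩ := exists_isAffineOpen_mem_and_subset (x := ξ) (U := ⊤) trivial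
  let A := Γ(X, U)
  let g : k →+* A := (sX.appLE ⊤ U le_top).hom.comp (Scheme.ΓSpecIso (CommRingCat.of k)).inv.hom
  letI : Algebra k A := g.toAlgebra
  haveI : Algebra.FiniteType k A := RingHom.finiteType_algebraMap.1 (by
    refine RingHom.FiniteType.comp (LocallyOfFiniteType.finiteType_appLE sX (isAffineOpen_top _) hU le_top) ?_
    exact RingHom.FiniteType.of_surjective _
      (Scheme.ΓSpecIso (CommRingCat.of k)).symm.commRingCatIsoToRingEquiv.surjective)
  set p := hU.primeIdealOf ⟨ξ, hξU⟩ with hp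
  have hpξ : hU.fromSpec p = ξ := hU.fromSpec_primeIdealOf ⟨ξ, hξU⟩
  have hclosed : ∀ C : Set X, IsClosed C → IsClosed (hU.fromSpec ⁻¹' C) :=
    fun C hC => hC.preimage hU.fromSpec.continuous
  have hchoice : ∀ i, ∃ a : A, a ∉ p.asIdeal ∧ ∀ q : PrimeSpectrum A,
      hU.fromSpec q ∈ Z i → a ∈ q.asIdeal := by
    intro i
    obtain ⟨s, hs⟩ := (PrimeSpectrum.isClosed_iff_zeroLocus _).1 (hclosed _ (Z i).2)
    have hnot' : hU.fromSpec p ∉ Z i := fun hmem => hne i <| by
      rw [hpξ] at hmem
      rw [← hgen]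
      exact closure_minimal (Set.singleton_subset_iff.2 hmem) (Z i).2
    have hnot : ¬ s ⊆ p.asIdeal := fun hmem =>
      hnot' (hs.ge ((PrimeSpectrum.mem_zeroLocus _ _).2 hmem) :)
    rw [Set.not_subset] at hnot
    obtain ⟨a, ha, hap⟩ := hnot
    exact ⟨a, hap, fun q hq => (hs.le hq : q ∈ PrimeSpectrum.zeroLocus s) ha⟩
  choose a ha haZ using hchoice
  let a' : Option ι → A ⧸ p.asIdeal :=
    fun o => o.elim 1 fun i => Ideal.Quotient.mk p.asIdeal (a i)
  obtain ⟨e, he⟩ := exists_surjective_nat (Option ι)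
  obtain ⟨m, hm, hmf⟩ := exists_isMaximal_forall_notMem (k := k) (fun n => a' (e n)) (fun n => by
    cases he' : e n with
    | none => simp [a']
    | some i => simpa [a', Ideal.Quotient.eq_zero_iff_mem] using ha i)
  haveI hM : (m.comap (Ideal.Quotient.mk p.asIdeal)).IsMaximal :=
    Ideal.comap_isMaximal_of_surjective _ Ideal.Quotient.mk_surjective
  let q : PrimeSpectrum A := ⟨m.comap (Ideal.Quotient.mk p.asIdeal), hM.isPrime⟩
  have hqT : hU.fromSpec q ∈ T := by
    have : p ⤳ q := (PrimeSpectrum.le_iff_specializes p q).1 fun x hx => by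
      show Ideal.Quotient.mk p.asIdeal x ∈ m
      rw [Ideal.Quotient.eq_zero_iff_mem.2 hx]; exact zero_mem _
    have hs := this.map hU.fromSpec.continuous
    rw [hpξ, specializes_iff_mem_closure, hgen] at hs
    exact hs
  have hqc : IsClosed ({hU.fromSpec q} : Set X) := by
    have h1 : q ∈ closedPoints (PrimeSpectrum A) :=
      (PrimeSpectrum.isClosed_singleton_iff_isMaximal q).2 hM
    exact (Set.ext_iff.1 (hU.fromSpec.isOpenEmbedding).preimage_closedPoints q).2 h1
  obtain ⟨i, hi⟩ := h _ hqT hqc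
  obtain ⟨n, hn⟩ := he (some i)
  exact hmf n (by rw [hn]; exact haZ i q hi)

/-- The irreducible closed subsets of `X` satisfy the ascending chain condition. -/
theorem exists_maximal (S : Set (Closeds X)) (hS : ∀ T ∈ S, IsIrreducible (T : Set X))
    {T : Closeds X} (hT : T ∈ S) : ∃ T' ∈ S, T ≤ T' ∧ ∀ T'' ∈ S, T' ≤ T'' → T'' = T' := by
  classical
  haveI : IsLocallyNoetherian X := LocallyOfFiniteType.isLocallyNoetherian sX
  have hirr := hS T hT
  have hgen : ∀ T'' ∈ S, ∃ y : X, closure {y} = (T'' : Set X) := fun T'' h => by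
    obtain ⟨y, hy⟩ := QuasiSober.sober (hS T'' h) T''.2
    exact ⟨y, hy⟩
  choose y hy using hgen
  obtain ⟨U, hU, hxU, -⟩ := exists_isAffineOpen_mem_and_subset (x := y T hT) (U := ⊤) trivial
  haveI : IsNoetherianRing Γ(X, U) := IsLocallyNoetherian.component_noetherian ⟨U, hU⟩
  have hmem : ∀ T'' (h : T'' ∈ S), T ≤ T'' → y T'' h ∈ U := fun T'' h hle => by
    have : y T hT ∈ closure {y T'' h} := by
      rw [hy T'' h]; exact hle ((hy T hT).le (subset_closure rfl))
    exact (specializes_iff_mem_closure.2 this).mem_open U.2 hxU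
  let P : {T'' : Closeds X // T'' ∈ S ∧ T ≤ T''} → PrimeSpectrum Γ(X, U) := fun T'' =>
    hU.primeIdealOf ⟨_, hmem T''.1 T''.2.1 T''.2.2⟩
  obtain ⟨⟨T', hT'S, hT'⟩, -, hmin⟩ := (InvImage.wf (fun T'' => (P T'').asIdeal.height)
    (wellFounded_lt : WellFounded ((· < ·) : ℕ∞ → ℕ∞ → Prop))).has_min Set.univ
      ⟨⟨T, hT, le_rfl⟩, trivial⟩
  exact ⟨T', hT'S, hT', fun T'' hS'' hle => Closeds.ext <| by
    have h' : T ≤ T'' := hT'.trans hle
    have hspec : y T'' hS'' ⤳ y T' hT'S := by
      rw [specializes_iff_mem_closure, hy T'' hS'']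
      exact hle ((hy T' hT'S).le (subset_closure rfl))
    have hple : P ⟨T'', hS'', h'⟩ ≤ P ⟨T', hT'S, hT'⟩ := by
      rw [PrimeSpectrum.le_iff_specializes]
      refine hU.fromSpec.isOpenEmbedding.isInducing.specializes_iff.1 ?_
      show hU.fromSpec (hU.primeIdealOf ⟨_, _⟩) ⤳ hU.fromSpec (hU.primeIdealOf ⟨_, _⟩)
      rw [hU.fromSpec_primeIdealOf, hU.fromSpec_primeIdealOf]
      exact hspec
    rcases hple.eq_or_lt with heq | hlt
    · have := congrArg hU.fromSpec heq
      rw [hU.fromSpec_primeIdealOf, hU.fromSpec_primeIdealOf] at this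
      change y T'' hS'' = y T' hT'S at this
      rw [← hy T'' hS'', ← hy T' hT'S, this]
    · exact absurd (Ideal.height_strict_mono_of_isPrime hlt) (hmin ⟨T'', hS'', h'⟩ trivial)⟩

end Groth.Agent.H96.Countable
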